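import Mathlib

/-!
# S4327: generation by conjugates, general facts; groups of order less than `2 ^ 11`
-/

set_option autoImplicit false

namespace Cfsg.Agent.H127.Gen

variable {L : Type*} [Group L]

/-- the subgroup generated by the conjugates `x ^ f i` -/
def NN (x : MulAut L) {k : ℕ} (f : Fin k → L) : Subgroup (MulAut L) :=
  Subgroup.closure (Set.range fun i => MulAut.conj (f i) * x * (MulAut.conj (f i))⁻¹)

/-- the target -/
def KK (x : MulAut L) : Subgroup (MulAut L) := Subgroup.zpowers x ⊔ (MulAut.conj : L →* MulAut L).range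

theorem NN_le_KK (x : MulAut L) {k : ℕ} (f : Fin k → L) : NN x f ≤ KK x := by
  unfold NN
  rw [Subgroup.closure_le]
  rintro _ ⟨i, rfl⟩
  have h1 : MulAut.conj (f i) ∈ KK x := (le_sup_right : _ ≤ KK x) ⟨f i, rfl⟩
  have h2 : x ∈ KK x := (le_sup_left : _ ≤ KK x) (Subgroup.mem_zpowers x)
  exact mul_mem (mul_mem h1 h2) (inv_mem h1)

theorem NN_eq_of_le {x : MulAut L} {k : ℕ} (hk : 0 < k) {f : Fin k → L}
    (h : (MulAut.conj : L →* MulAut L).range ≤ NN x f) : NN x f = KK x := by
  refine le_antisymm (NN_le_KK x f) ?_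
  unfold KK
  rw [sup_le_iff]
  refine ⟨?_, h⟩
  rw [Subgroup.zpowers_le]
  have h1 : MulAut.conj (f ⟨0, hk⟩) * x * (MulAut.conj (f ⟨0, hk⟩))⁻¹ ∈ NN x f :=
    Subgroup.subset_closure ⟨⟨0, hk⟩, rfl⟩
  have h2 : MulAut.conj (f ⟨0, hk⟩) ∈ NN x f := h ⟨_, rfl⟩
  have h3 := mul_mem (mul_mem (inv_mem h2) h1) h2
  have h4 : (MulAut.conj (f ⟨0, hk⟩))⁻¹ * (MulAut.conj (f ⟨0, hk⟩) * x * (MulAut.conj (f ⟨0, hk⟩))⁻¹) *
      MulAut.conj (f ⟨0, hk⟩) = x := by group
  rwa [h4] at h3

theorem NN_cons (x : MulAut L) {k : ℕ} (f : Fin k → L) (g : L) :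
    NN x f ≤ NN x (Fin.cons g f : Fin (k + 1) → L) ∧
      MulAut.conj g * x * (MulAut.conj g)⁻¹ ∈ NN x (Fin.cons g f : Fin (k + 1) → L) := by
  constructor
  · apply Subgroup.closure_mono
    rintro _ ⟨i, rfl⟩
    exact ⟨i.succ, by simp⟩
  · exact Subgroup.subset_closure ⟨0, by simp⟩

/-- `x ^ l x⁻¹` is inner -/
theorem conj_mul_inv (x : MulAut L) (l : L) :
    MulAut.conj l * x * (MulAut.conj l)⁻¹ * x⁻¹ = MulAut.conj (l * (x l)⁻¹) := by
  ext v
  simp only [MulAut.mul_apply, MulAut.conj_apply, ← map_inv]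
  simp only [MulAut.apply_inv_self, map_mul, mul_inv_rev, inv_inv, map_inv, mul_assoc]

/-- if a subgroup contains all `L`-conjugates of `x ≠ 1` then it contains `Inn L` -/
theorem range_le_of_forall [IsSimpleGroup L] {x : MulAut L} (hx : x ≠ 1) {N : Subgroup (MulAut L)}
    (h : ∀ g : L, MulAut.conj g * x * (MulAut.conj g)⁻¹ ∈ N) : (MulAut.conj : L →* MulAut L).range ≤ N := by
  set S : Subgroup (MulAut L) := Subgroup.closure (Set.range fun g : L => MulAut.conj g * x * (MulAut.conj g)⁻¹)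
    with hS
  have hSN : S ≤ N := by
    rw [hS, Subgroup.closure_le]
    rintro _ ⟨g, rfl⟩
    exact h g
  have hxS : ∀ g : L, MulAut.conj g * x * (MulAut.conj g)⁻¹ ∈ S := fun g => Subgroup.subset_closure ⟨g, rfl⟩
  have hnorm : ∀ g : L, ∀ s ∈ S, MulAut.conj g * s * (MulAut.conj g)⁻¹ ∈ S := by
    intro g s hs
    induction hs using Subgroup.closure_induction with
    | mem y hy =>
      obtain ⟨l, rfl⟩ := hy
      have e : MulAut.conj g * (MulAut.conj l * x * (MulAut.conj l)⁻¹) * (MulAut.conj g)⁻¹ =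
          MulAut.conj (g * l) * x * (MulAut.conj (g * l))⁻¹ := by
        rw [map_mul]
        group
      show MulAut.conj g * (MulAut.conj l * x * (MulAut.conj l)⁻¹) * (MulAut.conj g)⁻¹ ∈ S
      rw [e]
      exact hxS _
    | one =>
      have e : MulAut.conj g * 1 * (MulAut.conj g)⁻¹ = 1 := by group
      rw [e]
      exact one_mem _
    | mul a b _ _ ha hb =>
      have e : MulAut.conj g * (a * b) * (MulAut.conj g)⁻¹ =
        (MulAut.conj g * a * (MulAut.conj g)⁻¹) * (MulAut.conj g * b * (MulAut.conj g)⁻¹) := by group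
      rw [e]
      exact mul_mem ha hb
    | inv a _ ha =>
      have e : MulAut.conj g * a⁻¹ * (MulAut.conj g)⁻¹ = (MulAut.conj g * a * (MulAut.conj g)⁻¹)⁻¹ := by group
      rw [e]
      exact inv_mem ha
  have hTn : (S.comap (MulAut.conj : L →* MulAut L)).Normal := by
    constructor
    intro l hl g
    rw [Subgroup.mem_comap] at hl ⊢
    have e : MulAut.conj (g * l * g⁻¹) = MulAut.conj g * MulAut.conj l * (MulAut.conj g)⁻¹ := by
      rw [map_mul, map_mul, map_inv]
    rw [e]
    exact hnorm g _ hl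
  rcases hTn.eq_bot_or_eq_top with h1 | h1
  · exfalso
    apply hx
    ext l
    have h2 : l * (x l)⁻¹ ∈ S.comap (MulAut.conj : L →* MulAut L) := by
      rw [Subgroup.mem_comap, ← conj_mul_inv]
      have h3 := hxS 1
      rw [map_one, one_mul, inv_one, mul_one] at h3
      exact mul_mem (hxS l) (inv_mem h3)
    rw [h1, Subgroup.mem_bot, mul_inv_eq_one] at h2
    exact h2.symm
  · rintro _ ⟨l, rfl⟩
    have h2 : l ∈ S.comap (MulAut.conj : L →* MulAut L) := h1 ▸ Subgroup.mem_top l
    exact hSN h2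

variable [Finite L]

theorem finite_mulAut' : Finite (MulAut L) :=
  Finite.of_injective (fun g : MulAut L => (g : L → L)) DFunLike.coe_injective

theorem chain [IsSimpleGroup L] {x : MulAut L} (hx : x ≠ 1) (k : ℕ) :
    ∃ f : Fin (k + 1) → L, (MulAut.conj : L →* MulAut L).range ≤ NN x f ∨
      orderOf x * 2 ^ k ≤ Nat.card (NN x f) := by
  have hfin : Finite (MulAut L) := finite_mulAut'
  induction k with
  | zero =>
    refine ⟨fun _ => 1, Or.inr ?_⟩
    rw [pow_zero, mul_one, ← Nat.card_zpowers]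
    apply Subgroup.card_le_of_le
    rw [Subgroup.zpowers_le]
    exact Subgroup.subset_closure ⟨0, by simp⟩
  | succ k ih =>
    obtain ⟨f, hf⟩ := ih
    rcases hf with hf | hf
    · exact ⟨Fin.cons 1 f, Or.inl (hf.trans (NN_cons x f 1).1)⟩
    · by_cases hr : (MulAut.conj : L →* MulAut L).range ≤ NN x f
      · exact ⟨Fin.cons 1 f, Or.inl (hr.trans (NN_cons x f 1).1)⟩
      obtain ⟨g, hg⟩ : ∃ g : L, MulAut.conj g * x * (MulAut.conj g)⁻¹ ∉ NN x f := by
        by_contra h0
        push Not at h0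
        exact hr (range_le_of_forall hx h0)
      refine ⟨Fin.cons g f, Or.inr ?_⟩
      obtain ⟨h1, h2⟩ := NN_cons x f g
      have h3 : Nat.card (NN x f) ∣ Nat.card (NN x (Fin.cons g f : Fin (k + 2) → L)) := Subgroup.card_dvd_of_le h1
      have h4 : Nat.card (NN x f) ≠ Nat.card (NN x (Fin.cons g f : Fin (k + 2) → L)) := by
        intro h0
        exact hg ((Subgroup.eq_of_le_of_card_ge h1 h0.ge) ▸ h2)
      obtain ⟨c, hc⟩ := h3
      have h5 : 0 < Nat.card (NN x (Fin.cons g f : Fin (k + 2) → L)) := Nat.card_pos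
      have h6 : 2 ≤ c := by
        rcases Nat.lt_or_ge c 2 with h7 | h7
        · interval_cases c
          · omega
          · omega
        · exact h7
      rw [hc, pow_succ]
      nlinarith

open scoped Pointwise in
theorem card_KK_le (x : MulAut L) : Nat.card (KK x) ≤ orderOf x * Nat.card L := by
  have hfin : Finite (MulAut L) := finite_mulAut'
  have hn : (MulAut.conj : L →* MulAut L).range.Normal := by
    constructor
    rintro _ ⟨l, rfl⟩ g
    refine ⟨g l, ?_⟩
    ext v
    simp only [MulAut.mul_apply, MulAut.conj_apply, map_mul, map_inv, MulAut.apply_inv_self]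
  have h1 : ((KK x : Subgroup (MulAut L)) : Set (MulAut L)) =
      (Subgroup.zpowers x : Set (MulAut L)) * ((MulAut.conj : L →* MulAut L).range : Set (MulAut L)) :=
    Subgroup.mul_normal _ _
  have h2 : Nat.card (KK x) = Nat.card ((KK x : Subgroup (MulAut L)) : Set (MulAut L)) := rfl
  rw [h2, h1]
  refine (Set.natCard_mul_le).trans ?_
  have h3 : Nat.card ((Subgroup.zpowers x : Subgroup (MulAut L)) : Set (MulAut L)) = orderOf x := Nat.card_zpowers x
  have h4 : Nat.card (((MulAut.conj : L →* MulAut L).range : Subgroup (MulAut L)) : Set (MulAut L)) ≤ Nat.card L :=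
    Nat.card_le_card_of_surjective (fun l : L => (⟨MulAut.conj l, ⟨l, rfl⟩⟩ :
      (MulAut.conj : L →* MulAut L).range)) (by rintro ⟨_, l, rfl⟩; exact ⟨l, rfl⟩)
  rw [h3]
  exact Nat.mul_le_mul_left _ h4

/-- simple groups of order less than `2 ^ (k + 1)`: `k + 1` conjugates -/
theorem gen_small [IsSimpleGroup L] {x : MulAut L} (hx : x ≠ 1) (k : ℕ) (hc : Nat.card L < 2 ^ (k + 1)) :
    ∃ f : Fin (k + 1) → L, NN x f = KK x := by
  have hfin : Finite (MulAut L) := finite_mulAut'
  obtain ⟨f, hf⟩ := chain hx k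
  by_cases hr : (MulAut.conj : L →* MulAut L).range ≤ NN x f
  · exact ⟨f, NN_eq_of_le (Nat.succ_pos k) hr⟩
  exfalso
  have h1 := hf.resolve_left hr
  have h2 := NN_le_KK x f
  have h3 : Nat.card (NN x f) ∣ Nat.card (KK x) := Subgroup.card_dvd_of_le h2
  have h4 : Nat.card (NN x f) ≠ Nat.card (KK x) := by
    intro h0
    exact hr ((Subgroup.eq_of_le_of_card_ge h2 h0.ge) ▸ (le_sup_right : _ ≤ KK x))
  obtain ⟨c, hc'⟩ := h3
  have h5 : 0 < Nat.card (KK x) := Nat.card_pos
  have h6 : 2 ≤ c := by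
    rcases Nat.lt_or_ge c 2 with h7 | h7
    · interval_cases c
      · omega
      · omega
    · exact h7
  have h7 := card_KK_le x
  have h8 : 0 < orderOf x := orderOf_pos x
  have h9 : orderOf x * 2 ^ (k + 1) ≤ orderOf x * Nat.card L := by
    rw [pow_succ]
    calc orderOf x * (2 ^ k * 2) = orderOf x * 2 ^ k * 2 := by ring
      _ ≤ Nat.card (NN x f) * c := Nat.mul_le_mul h1 h6
      _ = Nat.card (KK x) := hc'.symm
      _ ≤ _ := h7
  have h10 := Nat.le_of_mul_le_mul_left h9 h8
  omega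

end Cfsg.Agent.H127.Gen
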