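import Cfsg.Agent.H127.Gen.Start

/-!
# S4327, alternating row: involutions without fixed points
-/

set_option autoImplicit false
set_option linter.unusedSectionVars false

namespace Cfsg.Agent.H127.Gen

open Equiv Equiv.Perm

/-! ### the computation in degree 8 -/

/-- the involution -/
def x1 : Perm (Fin 8) := swap 0 1 * (swap 2 3 * (swap 4 5 * swap 6 7))
/-- first conjugator -/
def g1 : Perm (Fin 8) := swap 2 6 * swap 4 7
/-- second conjugator -/
def g2 : Perm (Fin 8) := swap 1 2 * swap 2 7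
/-- third conjugator -/
def g3 : Perm (Fin 8) := swap 1 3 * swap 2 7
/-- the commutator -/
def uu (g : Perm (Fin 8)) : Perm (Fin 8) := g * (x1 * g⁻¹ * x1⁻¹)

theorem w_eq : (uu g1 * uu g2 * uu g3) * (uu g1 * uu g2 * uu g3) = C3 3 7 4 := by
  decide +kernel

theorem uu2_three : uu g2 3 = 0 := by decide +kernel
theorem uu2_four : uu g2 4 = 4 := by decide +kernel
theorem uu2_seven : uu g2 7 = 1 := by decide +kernel

theorem T3_eight {N : Subgroup (Perm (Fin 8))} (h1 : uu g1 ∈ N) (h2 : uu g2 ∈ N) (h3 : uu g3 ∈ N) :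
    T3 N {1, 0, 3, 7, 4} := by
  have hw : C3 3 7 4 ∈ N := by
    rw [← w_eq]
    have := mul_mem (mul_mem h1 h2) h3
    exact mul_mem this this
  have hT : T3 N {3, 7, 4} := T3.of_mem (by decide) (by decide) (by decide) hw
  have hT2 := hT.step (by decide) h2 (a := 4) (b := 3) (by decide) (by decide)
    (by rw [uu2_four]; decide) (by rw [uu2_three]; decide)
  rw [uu2_three] at hT2
  have hT3 := hT2.step (by decide) h2 (a := 4) (b := 7) (by decide) (by decide)
    (by rw [uu2_four]; decide) (by rw [uu2_seven]; decide)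
  rw [uu2_seven] at hT3
  exact hT3

variable {α : Type*} [DecidableEq α] [Fintype α]

theorem via_swap {β : Type*} [DecidableEq β] (p : β ↪ α) (a b : β) :
    viaEmbeddingHom p (swap a b) = swap (p a) (p b) := by
  ext v
  rw [viaEmbeddingHom_apply]
  by_cases hv : v ∈ Set.range p
  · obtain ⟨i, rfl⟩ := hv
    rw [viaEmbedding_apply]
    by_cases h1 : i = a
    · subst h1; rw [swap_apply_left, swap_apply_left]
    · by_cases h2 : i = b
      · subst h2; rw [swap_apply_right, swap_apply_right]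
      · rw [swap_apply_of_ne_of_ne h1 h2, swap_apply_of_ne_of_ne (p.injective.ne h1) (p.injective.ne h2)]
  · rw [viaEmbedding_apply_of_notMem _ _ _ hv, swap_apply_of_ne_of_ne]
    · rintro rfl; exact hv ⟨a, rfl⟩
    · rintro rfl; exact hv ⟨b, rfl⟩

theorem T3.map {β : Type*} [DecidableEq β] (p : β ↪ α) {N : Subgroup (Perm β)} {H : Subgroup (Perm α)} {Ω : Finset β}
    (h : T3 N Ω) (hNH : ∀ g ∈ N, viaEmbeddingHom p g ∈ H) : T3 H (Ω.map p) := by
  intro a ha b hb c hc hab hbc hac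
  obtain ⟨a, ha', rfl⟩ := Finset.mem_map.1 ha
  obtain ⟨b, hb', rfl⟩ := Finset.mem_map.1 hb
  obtain ⟨c, hc', rfl⟩ := Finset.mem_map.1 hc
  have h1 := hNH _ (h a ha' b hb' c hc' (fun h0 => hab (h0 ▸ rfl)) (fun h0 => hbc (h0 ▸ rfl))
    (fun h0 => hac (h0 ▸ rfl)))
  unfold C3 at h1 ⊢
  rwa [map_mul, via_swap, via_swap] at h1

theorem x1_x1 (i : Fin 8) : x1 (x1 i) = i := by
  revert i; decide +kernel

theorem exists_notMem {s : Finset α} (h : s.card < Fintype.card α) : ∃ a, a ∉ s := by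
  by_contra h0
  push Not at h0
  have h1 : (Finset.univ : Finset α) ⊆ s := fun a _ => h0 a
  have h2 := Finset.card_le_card h1
  rw [Finset.card_univ] at h2
  omega

/-- four 2-cycles -/
theorem exists_eight {x : Perm α} (hx : ∀ v, x (x v) = v) (hf : ∀ v, x v ≠ v) (h8 : 8 ≤ Fintype.card α) :
    ∃ p : Fin 8 ↪ α, ∀ i, x (p i) = p (x1 i) := by
  obtain ⟨a0, -⟩ := exists_notMem (s := (∅ : Finset α)) (by rw [Finset.card_empty]; omega)
  obtain ⟨a1, h1⟩ := exists_notMem (s := {a0, x a0}) (lt_of_le_of_lt Finset.card_le_two (by omega))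
  obtain ⟨a2, h2⟩ := exists_notMem (s := {a0, x a0, a1, x a1}) (lt_of_le_of_lt Finset.card_le_four (by omega))
  obtain ⟨a3, h3⟩ := exists_notMem (s := {a0, x a0, a1, x a1, a2, x a2})
    (lt_of_le_of_lt Finset.card_le_six (by omega))
  simp only [Finset.mem_insert, Finset.mem_singleton, not_or] at h1 h2 h3
  have hx' : ∀ {u v : α}, u ≠ x v → x u ≠ v := fun {u v} h h0 => h (by rw [← h0, hx])
  have i0 := hf a0
  have i1 := hf a1
  have i2 := hf a2
  have i3 := hf a3
  have h1' : a1 ≠ a0 ∧ a1 ≠ x a0 := h1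
  have h2' : a2 ≠ a0 ∧ a2 ≠ x a0 ∧ a2 ≠ a1 ∧ a2 ≠ x a1 := h2
  have h3' : a3 ≠ a0 ∧ a3 ≠ x a0 ∧ a3 ≠ a1 ∧ a3 ≠ x a1 ∧ a3 ≠ a2 ∧ a3 ≠ x a2 := h3
  obtain ⟨b1, b2⟩ := h1'
  obtain ⟨c1, c2, c3, c4⟩ := h2'
  obtain ⟨d1, d2, d3, d4, d5, d6⟩ := h3'
  have e1 := x.injective.ne b1
  have e2 := hx' b2
  have f1 := x.injective.ne c1
  have f2 := hx' c2
  have f3 := x.injective.ne c3
  have f4 := hx' c4
  have k1 := x.injective.ne d1
  have k2 := hx' d2
  have k3 := x.injective.ne d3
  have k4 := hx' d4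
  have k5 := x.injective.ne d5
  have k6 := hx' d6
  have hnd : [a0, x a0, a1, x a1, a2, x a2, a3, x a3].Nodup := by
    simp only [List.nodup_cons, List.mem_cons, List.not_mem_nil, or_false, not_or, not_false_eq_true,
      List.nodup_nil, and_true]
    refine ⟨⟨i0.symm, b1.symm, e2.symm, c1.symm, f2.symm, d1.symm, k2.symm⟩,
      ⟨b2.symm, e1.symm, c2.symm, f1.symm, d2.symm, k1.symm⟩,
      ⟨i1.symm, c3.symm, f4.symm, d3.symm, k4.symm⟩,
      ⟨c4.symm, f3.symm, d4.symm, k3.symm⟩,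
      ⟨i2.symm, d5.symm, k6.symm⟩, ⟨d6.symm, k5.symm⟩, i3.symm⟩
  let f : Fin 8 → α := fun i => [a0, x a0, a1, x a1, a2, x a2, a3, x a3].get i
  have hfinj : Function.Injective f := List.nodup_iff_injective_get.1 hnd
  refine ⟨⟨f, hfinj⟩, ?_⟩
  intro i
  show x (f i) = f (x1 i)
  fin_cases i
  · show x (f 0) = f (x1 0)
    rw [show x1 0 = 1 by decide +kernel]; rfl
  · show x (f 1) = f (x1 1)
    rw [show x1 1 = 0 by decide +kernel]; exact hx a0
  · show x (f 2) = f (x1 2)
    rw [show x1 2 = 3 by decide +kernel]; rfl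
  · show x (f 3) = f (x1 3)
    rw [show x1 3 = 2 by decide +kernel]; exact hx a1
  · show x (f 4) = f (x1 4)
    rw [show x1 4 = 5 by decide +kernel]; rfl
  · show x (f 5) = f (x1 5)
    rw [show x1 5 = 4 by decide +kernel]; exact hx a2
  · show x (f 6) = f (x1 6)
    rw [show x1 6 = 7 by decide +kernel]; rfl
  · show x (f 7) = f (x1 7)
    rw [show x1 7 = 6 by decide +kernel]; exact hx a3

theorem via_conj {x : Perm α} (hx : ∀ v, x (x v) = v) (p : Fin 8 ↪ α) (hp : ∀ i, x (p i) = p (x1 i))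
    (g : Perm (Fin 8)) : x * viaEmbeddingHom p g * x⁻¹ = viaEmbeddingHom p (x1 * g * x1⁻¹) := by
  have hxi : x⁻¹ = x := by
    rw [inv_eq_iff_mul_eq_one]
    exact Perm.ext hx
  have hx1i : x1⁻¹ = x1 := by
    rw [inv_eq_iff_mul_eq_one]
    exact Perm.ext x1_x1
  rw [hxi, hx1i]
  ext v
  rw [Perm.mul_apply, Perm.mul_apply, viaEmbeddingHom_apply, viaEmbeddingHom_apply]
  by_cases hv : v ∈ Set.range p
  · obtain ⟨i, rfl⟩ := hv
    rw [hp, viaEmbedding_apply, viaEmbedding_apply, hp]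
    rfl
  · have h1 : x v ∉ Set.range p := by
      rintro ⟨i, hi⟩
      apply hv
      refine ⟨x1 i, ?_⟩
      rw [← hp, hi, hx]
    rw [viaEmbedding_apply_of_notMem _ _ _ hv, viaEmbedding_apply_of_notMem _ _ _ h1, hx]

theorem start_fpf {x : Perm α} (hx2 : x ^ 2 = 1) (hf : ∀ v, x v ≠ v) (h8 : 8 ≤ Fintype.card α) :
    Good x 4 5 := by
  have hx : ∀ v, x (x v) = v := fun v => by
    have := congrArg (fun g : Perm α => g v) hx2
    exact this
  obtain ⟨p, hp⟩ := exists_eight hx hf h8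
  set φ := viaEmbeddingHom p with hφ
  refine ⟨![1, φ g1, φ g2, φ g3], ?_, ({1, 0, 3, 7, 4} : Finset (Fin 8)).map p, ?_, ?_⟩
  · have hs : ∀ a b c d : Fin 8, a ≠ b → c ≠ d → sign (φ (swap a b * swap c d)) = 1 := by
      intro a b c d hab hcd
      rw [map_mul, hφ, via_swap, via_swap, map_mul, sign_swap (p.injective.ne hab),
        sign_swap (p.injective.ne hcd)]
      decide
    intro i
    fin_cases i
    · exact sign_one
    · exact hs _ _ _ _ (by decide) (by decide)
    · exact hs _ _ _ _ (by decide) (by decide)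
    · exact hs _ _ _ _ (by decide) (by decide)
  · rw [Finset.card_map]
    decide
  · set H := Subgroup.closure (Set.range fun i => (![1, φ g1, φ g2, φ g3] : Fin 4 → Perm α) i * x *
      ((![1, φ g1, φ g2, φ g3] : Fin 4 → Perm α) i)⁻¹) with hH
    have hxH : x ∈ H := Subgroup.subset_closure ⟨0, by simp⟩
    have hcom : ∀ g, φ g * x * (φ g)⁻¹ ∈ H → φ (uu g) ∈ H := by
      intro g hg
      have h1 := mem_comm hxH hg
      have h2 : φ g * (x * (φ g)⁻¹ * x⁻¹) = φ (uu g) := by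
        rw [← map_inv, hφ, via_conj hx p hp, ← map_mul]
        rfl
      rwa [h2] at h1
    have k1 : φ (uu g1) ∈ H := hcom _ (Subgroup.subset_closure ⟨1, rfl⟩)
    have k2 : φ (uu g2) ∈ H := hcom _ (Subgroup.subset_closure ⟨2, rfl⟩)
    have k3 : φ (uu g3) ∈ H := hcom _ (Subgroup.subset_closure ⟨3, rfl⟩)
    refine (T3_eight (N := H.comap φ) k1 k2 k3).map p ?_
    intro g hg
    exact hg

/-- `x` an involution without fixed points: two conjugates generate a group of order divisible by 3 -/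
theorem three_dvd_fpf {x : Perm α} (hx2 : x ^ 2 = 1) (hf : ∀ v, x v ≠ v) (h8 : 8 ≤ Fintype.card α) :
    ∃ g : Perm α, sign g = 1 ∧ ∀ H : Subgroup (Perm α), x ∈ H → g * x * g⁻¹ ∈ H → 3 ∣ Nat.card H := by
  have hx : ∀ v, x (x v) = v := fun v => by
    have := congrArg (fun g : Perm α => g v) hx2
    exact this
  obtain ⟨p, hp⟩ := exists_eight hx hf h8
  set φ := viaEmbeddingHom p with hφ
  refine ⟨φ (C3 0 2 4), ?_, fun H h1 h2 => ?_⟩
  · unfold C3
    rw [map_mul, hφ, via_swap, via_swap, map_mul, sign_swap (p.injective.ne (by decide)),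
        sign_swap (p.injective.ne (by decide))]
    decide
  · have h3 := mem_comm h1 h2
    have h4 : φ (C3 0 2 4) * (x * (φ (C3 0 2 4))⁻¹ * x⁻¹) = φ (uu (C3 0 2 4)) := by
      rw [← map_inv, hφ, via_conj hx p hp, ← map_mul]
      rfl
    rw [h4] at h3
    have h5 : orderOf (φ (uu (C3 0 2 4))) = 3 := by
      apply orderOf_eq_prime
      · rw [← map_pow, show (uu (C3 0 2 4)) ^ 3 = 1 by decide +kernel, map_one]
      · intro h0
        have h6 : uu (C3 0 2 4) = 1 := by
          apply viaEmbeddingHom_injective p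
          rw [map_one]
          exact h0
        exact absurd h6 (by decide +kernel)
    rw [← h5]
    have h7 : orderOf (⟨φ (uu (C3 0 2 4)), h3⟩ : H) = orderOf (φ (uu (C3 0 2 4))) :=
      Subgroup.orderOf_mk _ _
    rw [← h7]
    exact orderOf_dvd_natCard _

end Cfsg.Agent.H127.Gen
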