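import Cfsg.Prelude
import Cfsg.Agent.H127.Gen.Chain
import Cfsg.Agent.H127.Gen.Fpf
import Cfsg.Agent.S2119

/-!
# S4327: the alternating row
-/

set_option autoImplicit false
set_option linter.unusedSectionVars false

namespace Cfsg.Agent.H127.Gen

open Equiv Equiv.Perm

/-- `k` conjugates: all 3-cycles on a set with `min (k + 1) n` points -/
theorem good {α : Type*} [DecidableEq α] [Fintype α] {x : Perm α} (hx : (orderOf x).Prime)
    (h7 : 7 ≤ Fintype.card α) {k : ℕ} (hk : 4 ≤ k) : Good x k (min (k + 1) (Fintype.card α)) := by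
  have hx1 : x ≠ 1 := by
    intro h
    rw [h, orderOf_one] at hx
    exact Nat.not_prime_one hx
  by_cases h : orderOf x ≠ 2 ∨ ∃ f, x f = f
  · have h1 := (start hx h).steps hx1 le_rfl (k - 2)
    have e1 : 2 + (k - 2) = k := by omega
    have e2 : min (3 + (k - 2)) (max 3 (Fintype.card α)) = min (k + 1) (Fintype.card α) := by omega
    rwa [e1, e2] at h1
  · push Not at h
    obtain ⟨h2, hf⟩ := h
    have hx2 : x ^ 2 = 1 := by rw [← h2]; exact pow_orderOf_eq_one x
    have h8 : 8 ≤ Fintype.card α := by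
      have h3 := two_dvd_card_support hx2
      have h4 : x.support = Finset.univ := by
        ext v
        simp [hf v]
      rw [h4, Finset.card_univ] at h3
      omega
    have h1 := (start_fpf hx2 hf h8).steps hx1 (by norm_num) (k - 4)
    have e1 : 4 + (k - 4) = k := by omega
    have e2 : min (5 + (k - 4)) (max 5 (Fintype.card α)) = min (k + 1) (Fintype.card α) := by omega
    rwa [e1, e2] at h1

/-- two conjugates generating a group of order divisible by 3 -/
theorem good_three {α : Type*} [DecidableEq α] [Fintype α] {x : Perm α} (hx : (orderOf x).Prime)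
    (h7 : 7 ≤ Fintype.card α) : ∃ f : Fin 2 → Perm α, (∀ i, sign (f i) = 1) ∧
      3 ∣ Nat.card (Subgroup.closure (Set.range fun i => f i * x * (f i)⁻¹)) := by
  by_cases h : orderOf x ≠ 2 ∨ ∃ f, x f = f
  · obtain ⟨f, hf, Ω, hΩ, hT⟩ := start hx h
    exact ⟨f, hf, hT.dvd Nat.prime_three (by norm_num) hΩ⟩
  · push Not at h
    obtain ⟨h2, hf⟩ := h
    have hx2 : x ^ 2 = 1 := by rw [← h2]; exact pow_orderOf_eq_one x
    have h8 : 8 ≤ Fintype.card α := by
      have h3 := two_dvd_card_support hx2
      have h4 : x.support = Finset.univ := by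
        ext v
        simp [hf v]
      rw [h4, Finset.card_univ] at h3
      omega
    obtain ⟨g, hg, hH⟩ := three_dvd_fpf hx2 hf h8
    refine ⟨![1, g], ?_, hH _ ?_ ?_⟩
    · intro i
      fin_cases i
      · exact sign_one
      · exact hg
    · exact Subgroup.subset_closure ⟨0, by simp⟩
    · exact Subgroup.subset_closure ⟨1, by simp⟩

/-- transfer to `L ≃* A_n` -/
theorem transfer {L : Type*} [Group L] {n : ℕ} (h4 : 4 ≤ n) (h6 : n ≠ 6)
    (e : L ≃* alternatingGroup (Fin n)) (x : MulAut L) :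
    ∃ (s : Perm (Fin n)) (ψ : Perm (Fin n) →* MulAut L), Function.Injective ψ ∧ ψ s = x ∧
      ∀ g : alternatingGroup (Fin n), ψ g = MulAut.conj (e.symm g) := by
  obtain ⟨hinj, hsurj⟩ := Cfsg.Agent.S2119.result n h4 h6
  let ψ : Perm (Fin n) →* MulAut L := (MulAut.congr e).symm.toMonoidHom.comp MulAut.conjNormal
  have hψ : ∀ s, ψ s = (MulAut.congr e).symm (MulAut.conjNormal s) := fun s => rfl
  obtain ⟨s, hs⟩ := hsurj (MulAut.congr e x)
  refine ⟨s, ψ, (MulAut.congr e).symm.injective.comp hinj, ?_, ?_⟩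
  · rw [hψ, hs, MulEquiv.symm_apply_apply]
  · intro g
    rw [hψ]
    ext l
    show e.symm ((MulAut.conjNormal (g : Perm (Fin n)) : MulAut (alternatingGroup (Fin n))) (e l)) =
      e.symm g * l * (e.symm g)⁻¹
    have h1 : (MulAut.conjNormal (g : Perm (Fin n)) : MulAut (alternatingGroup (Fin n))) (e l) = g * e l * g⁻¹ := by
      apply Subtype.ext
      rw [MulAut.conjNormal_apply]
      rfl
    rw [h1, map_mul, map_mul, map_inv, MulEquiv.symm_apply_apply]

/-- **S4327, the alternating row** -/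
theorem row_alt {L : Type*} [Group L] [Finite L] [IsSimpleGroup L] (hL : Cfsg.IsAlternating L) (r : ℕ)
    (hr : r.Prime) (hr2 : r ≠ 2) (x : MulAut L) (hx : (orderOf x).Prime) :
    (∃ f : Fin 11 → L, NN x f = KK x) ∨ (¬ r ∣ Nat.card L ∧ ∃ f : Fin (r - 1) → L, NN x f = KK x) ∨
      (r ∣ Nat.card L ∧ ∃ f : Fin (2 * (r - 2)) → L, r ∣ Nat.card (NN x f)) := by
  obtain ⟨n, hn, ⟨e⟩⟩ := hL
  have hnt : Nontrivial (Fin n) := Fin.nontrivial_iff_two_le.2 (by omega)
  have hcard : 2 * Nat.card L = n.factorial := by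
    rw [Nat.card_congr e.toEquiv, Nat.card_eq_fintype_card, two_mul_card_alternatingGroup, Fintype.card_perm,
      Fintype.card_fin]
  have hx1 : x ≠ 1 := by
    intro h
    rw [h, orderOf_one] at hx
    exact Nat.not_prime_one hx
  by_cases h7 : n < 7
  · left
    apply gen_small hx1 10
    have h1 : n.factorial ≤ (6 : ℕ).factorial := Nat.factorial_le (by omega)
    have h2 : (6 : ℕ).factorial = 720 := rfl
    rw [h2] at h1
    norm_num
    omega
  push Not at h7
  obtain ⟨s, ψ, hψi, hψs, hψ⟩ := transfer (by omega) (by omega) e x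
  have hs : (orderOf s).Prime := by
    rw [← orderOf_injective ψ hψi, hψs]
    exact hx
  have hc : 7 ≤ Fintype.card (Fin n) := by rw [Fintype.card_fin]; exact h7
  -- the transfer of the generated groups
  have key : ∀ (k : ℕ) (f : Fin k → Perm (Fin n)) (hf : ∀ i, sign (f i) = 1),
      NN x (fun i => e.symm ⟨f i, mem_alternatingGroup.2 (hf i)⟩) =
        (Subgroup.closure (Set.range fun i => f i * s * (f i)⁻¹)).map ψ := by
    intro k f hf
    unfold NN
    rw [MonoidHom.map_closure, ← Set.range_comp]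
    congr 2
    funext i
    show _ = ψ (f i * s * (f i)⁻¹)
    rw [map_mul, map_mul, map_inv, hψs, ← hψ ⟨f i, mem_alternatingGroup.2 (hf i)⟩]
  have kcard : ∀ H : Subgroup (Perm (Fin n)), Nat.card (H.map ψ) = Nat.card H := fun H =>
    Nat.card_congr (Subgroup.equivMapOfInjective _ ψ hψi).symm.toEquiv
  have hgen : ∀ k : ℕ, 0 < k → Good s k n → ∃ f : Fin k → L, NN x f = KK x := by
    rintro k hk ⟨f, hf, Ω, hΩ, hT⟩
    have hΩu : Ω = Finset.univ := by
      apply Finset.eq_univ_of_card
      apply le_antisymm (Finset.card_le_univ _)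
      rw [Fintype.card_fin]
      exact hΩ
    rw [hΩu] at hT
    refine ⟨_, NN_eq_of_le hk (f := fun i => e.symm ⟨f i, mem_alternatingGroup.2 (hf i)⟩) ?_⟩
    rw [key k f hf]
    rintro _ ⟨l, rfl⟩
    refine ⟨e l, hT.alt_le (e l).2, ?_⟩
    rw [hψ, MulEquiv.symm_apply_apply]
  by_cases h12 : n ≤ 12
  · left
    apply hgen 11 (by norm_num)
    have h1 := good hs hc (k := 11) (by norm_num)
    rw [Fintype.card_fin] at h1
    have e1 : min (11 + 1) n = n := by omega
    rwa [e1] at h1
  push Not at h12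
  right
  by_cases hrn : r ≤ n
  · right
    have hdvd : r ∣ Nat.card L := by
      have h1 : r ∣ 2 * Nat.card L := by
        rw [hcard]
        exact hr.dvd_factorial.2 hrn
      exact ((Nat.Prime.dvd_mul hr).1 h1).resolve_left fun h2 =>
        hr2 ((Nat.prime_dvd_prime_iff_eq hr Nat.prime_two).1 h2)
    refine ⟨hdvd, ?_⟩
    by_cases h3 : r = 3
    · subst h3
      obtain ⟨f, hf, h1⟩ := good_three hs hc
      refine ⟨fun i => e.symm ⟨f i, mem_alternatingGroup.2 (hf i)⟩, ?_⟩
      have h2 := key 2 f hf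
      have h3 : (3 : ℕ) ∣ Nat.card (NN x (fun i : Fin 2 => e.symm ⟨f i, mem_alternatingGroup.2 (hf i)⟩)) := by
        rw [h2, kcard]
        exact h1
      exact h3
    · have h5 : 5 ≤ r := by
        have h6 := hr.two_le
        have h7' : r ≠ 4 := fun h0 => by rw [h0] at hr; exact absurd hr (by norm_num)
        omega
      obtain ⟨f, hf, Ω, hΩ, hT⟩ := good hs hc (k := 2 * (r - 2)) (by omega)
      rw [Fintype.card_fin] at hΩ
      refine ⟨fun i => e.symm ⟨f i, mem_alternatingGroup.2 (hf i)⟩, ?_⟩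
      rw [key _ f hf, kcard]
      exact hT.dvd hr hr2 (by omega)
  · left
    push Not at hrn
    constructor
    · intro h1
      have h2 : r ∣ n.factorial := by
        rw [← hcard]
        exact h1.mul_left 2
      have h3 := hr.dvd_factorial.1 h2
      omega
    · apply hgen (r - 1) (by omega)
      have h1 := good hs hc (k := r - 1) (by omega)
      rw [Fintype.card_fin] at h1
      have e1 : min (r - 1 + 1) n = n := by omega
      rwa [e1] at h1

/-- the same in the words of the template -/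
theorem row_alt' {L : Type*} [Group L] [Finite L] [IsSimpleGroup L] (hL : Cfsg.IsAlternating L) (r : ℕ)
    (hr : r.Prime) (hr2 : r ≠ 2) (x : MulAut L) (hx : (orderOf x).Prime) :
    (∃ f : Fin 11 → L, Subgroup.closure (Set.range fun i => MulAut.conj (f i) * x * (MulAut.conj (f i))⁻¹) =
        Subgroup.zpowers x ⊔ (MulAut.conj : L →* MulAut L).range) ∨
    (¬ r ∣ Nat.card L ∧
      ∃ f : Fin (r - 1) → L, Subgroup.closure (Set.range fun i => MulAut.conj (f i) * x * (MulAut.conj (f i))⁻¹) =
        Subgroup.zpowers x ⊔ (MulAut.conj : L →* MulAut L).range) ∨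
    (r ∣ Nat.card L ∧
      ∃ f : Fin (2 * (r - 2)) → L,
        r ∣ Nat.card (Subgroup.closure (Set.range fun i => MulAut.conj (f i) * x * (MulAut.conj (f i))⁻¹))) :=
  row_alt hL r hr hr2 x hx

end Cfsg.Agent.H127.Gen
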