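import Cfsg.Agent.H127.Gen.Three

/-!
# S4327, alternating row: adding conjugates one by one
-/

set_option autoImplicit false
set_option linter.unusedSectionVars false

namespace Cfsg.Agent.H127.Gen

open Equiv Equiv.Perm

variable {α : Type*} [DecidableEq α] [Fintype α]

/-- `k` conjugates of `x` by even permutations generate a group containing all 3-cycles on a set with at
least `m` points -/
def Good (x : Perm α) (k m : ℕ) : Prop :=
  ∃ f : Fin k → Perm α, (∀ i, sign (f i) = 1) ∧ ∃ Ω : Finset α, m ≤ Ω.card ∧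
    T3 (Subgroup.closure (Set.range fun i => f i * x * (f i)⁻¹)) Ω

theorem closure_cons (x : Perm α) {k : ℕ} (f : Fin k → Perm α) (g : Perm α) :
    Subgroup.closure (Set.range fun i => f i * x * (f i)⁻¹) ≤
      Subgroup.closure (Set.range fun i => (Fin.cons g f : Fin (k + 1) → Perm α) i * x *
        ((Fin.cons g f : Fin (k + 1) → Perm α) i)⁻¹) ∧
    g * x * g⁻¹ ∈ Subgroup.closure (Set.range fun i => (Fin.cons g f : Fin (k + 1) → Perm α) i * x *
        ((Fin.cons g f : Fin (k + 1) → Perm α) i)⁻¹) := by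
  constructor
  · apply Subgroup.closure_mono
    rintro _ ⟨i, rfl⟩
    exact ⟨i.succ, by simp⟩
  · exact Subgroup.subset_closure ⟨0, by simp⟩

theorem sign_cons {k : ℕ} {f : Fin k → Perm α} (hf : ∀ i, sign (f i) = 1) {g : Perm α} (hg : sign g = 1)
    (i : Fin (k + 1)) : sign ((Fin.cons g f : Fin (k + 1) → Perm α) i) = 1 := by
  refine Fin.cases ?_ (fun j => ?_) i
  · rw [Fin.cons_zero]; exact hg
  · rw [Fin.cons_succ]; exact hf j

theorem Good.succ {x : Perm α} {k m : ℕ} (h : Good x k m) : Good x (k + 1) m := by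
  obtain ⟨f, hf, Ω, hm, hT⟩ := h
  exact ⟨Fin.cons 1 f, sign_cons hf sign_one, Ω, hm, hT.mono (closure_cons x f 1).1⟩

theorem Good.mono {x : Perm α} {k k' m : ℕ} (h : Good x k m) (hk : k ≤ k') : Good x k' m := by
  induction k', hk using Nat.le_induction with
  | base => exact h
  | succ n _ ih => exact ih.succ

/-- an even permutation mapping `Ω₀` onto `Ω` -/
theorem exists_even {Ω₀ Ω : Finset α} (hc : Ω₀.card = Ω.card) (h2 : 2 ≤ Ω.card) :
    ∃ g : Perm α, sign g = 1 ∧ ∀ v, g v ∈ Ω ↔ v ∈ Ω₀ := by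
  classical
  let e : {x // x ∈ Ω₀} ≃ {x // x ∈ Ω} := Finset.equivOfCardEq hc
  set g : Perm α := e.extendSubtype with hg
  have hgm : ∀ v, g v ∈ Ω ↔ v ∈ Ω₀ := by
    intro v
    constructor
    · intro h
      by_contra h0
      exact e.extendSubtype_not_mem v h0 h
    · intro h
      exact e.extendSubtype_mem v h
  rcases Int.units_eq_one_or (sign g) with h1 | h1
  · exact ⟨g, h1, hgm⟩
  · obtain ⟨s, hs, t, ht, hst⟩ := Finset.one_lt_card.1 (show 1 < Ω₀.card by omega)
    refine ⟨g * swap s t, by rw [map_mul, h1, sign_swap hst]; decide, fun v => ?_⟩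
    rw [Perm.mul_apply, hgm]
    by_cases hvs : v = s
    · subst hvs
      rw [swap_apply_left]
      exact ⟨fun _ => hs, fun _ => ht⟩
    · by_cases hvt : v = t
      · subst hvt
        rw [swap_apply_right]
        exact ⟨fun _ => ht, fun _ => hs⟩
      · rw [swap_apply_of_ne_of_ne hvs hvt]

/-- the step -/
theorem Good.step {x : Perm α} (hx : x ≠ 1) {k m : ℕ} (h : Good x k m) (h3 : 3 ≤ m) (hm : m < Fintype.card α) :
    Good x (k + 1) (m + 1) := by
  classical
  obtain ⟨f, hf, Ω, hmΩ, hT⟩ := h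
  rcases Nat.lt_or_ge m Ω.card with h1 | h1
  · exact Good.succ ⟨f, hf, Ω, h1, hT⟩
  have hΩ : Ω.card = m := le_antisymm h1 hmΩ
  obtain ⟨b, hb⟩ : ∃ b, x b ≠ b := by
    by_contra h0
    push Not at h0
    exact hx (Perm.ext h0)
  obtain ⟨a, ha⟩ : ∃ a, a ∉ ({b, x b} : Finset α) := by
    by_contra h0
    push Not at h0
    have h2 : (Finset.univ : Finset α) ⊆ {b, x b} := fun a _ => h0 a
    have h4 := Finset.card_le_card h2
    rw [Finset.card_univ] at h4
    have h5 := Finset.card_le_two (a := b) (b := x b)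
    omega
  simp only [Finset.mem_insert, Finset.mem_singleton, not_or] at ha
  obtain ⟨Ω₀, hΩ1, hΩ2, hΩ3⟩ := Finset.exists_subsuperset_card_eq (s := {a, x a, b})
    (t := Finset.univ.erase (x b)) (n := m) (by
      intro v hv
      simp only [Finset.mem_insert, Finset.mem_singleton] at hv
      rw [Finset.mem_erase]
      refine ⟨?_, Finset.mem_univ _⟩
      rcases hv with rfl | rfl | rfl
      · exact ha.2
      · exact x.injective.ne ha.1
      · exact hb.symm) ((Finset.card_le_three).trans h3) (by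
      rw [Finset.card_erase_of_mem (Finset.mem_univ _), Finset.card_univ]
      omega)
  obtain ⟨g, hg, hgv⟩ := exists_even (Ω₀ := Ω₀) (Ω := Ω) (by omega) (by omega)
  have hxb : x b ∉ Ω₀ := fun h0 => (Finset.mem_erase.1 (hΩ2 h0)).1 rfl
  have ha0 : a ∈ Ω₀ := hΩ1 (by simp)
  have hxa : x a ∈ Ω₀ := hΩ1 (by simp)
  have hb0 : b ∈ Ω₀ := hΩ1 (by simp)
  set K := Subgroup.closure (Set.range fun i => (Fin.cons g f : Fin (k + 1) → Perm α) i * x *
        ((Fin.cons g f : Fin (k + 1) → Perm α) i)⁻¹) with hK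
  have hz : ∀ v, (g * x * g⁻¹) (g v) = g (x v) := by
    intro v
    show g (x (g⁻¹ (g v))) = g (x v)
    rw [show g⁻¹ (g v) = v from g.symm_apply_apply v]
  have hT' : T3 K (insert ((g * x * g⁻¹) (g b)) Ω) := by
    refine (hT.mono (closure_cons x f g).1).step (by omega) (closure_cons x f g).2 (a := g a) ((hgv a).2 ha0)
      ((hgv b).2 hb0) ?_ ?_
    · rw [hz]; exact (hgv _).2 hxa
    · rw [hz]; exact fun h0 => hxb ((hgv _).1 h0)
  refine ⟨Fin.cons g f, sign_cons hf hg, _, ?_, hT'⟩
  rw [Finset.card_insert_of_notMem, hΩ]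
  rw [hz]
  exact fun h0 => hxb ((hgv _).1 h0)

/-- many steps -/
theorem Good.steps {x : Perm α} (hx : x ≠ 1) {k m : ℕ} (h : Good x k m) (h3 : 3 ≤ m) (j : ℕ) :
    Good x (k + j) (min (m + j) (max m (Fintype.card α))) := by
  induction j with
  | zero =>
    obtain ⟨f, hf, Ω, hm, hT⟩ := h
    exact ⟨f, hf, Ω, (min_le_left _ _).trans hm, hT⟩
  | succ j ih =>
    by_cases h1 : m + j < max m (Fintype.card α)
    · have h2 : min (m + j) (max m (Fintype.card α)) = m + j := min_eq_left h1.le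
      rw [h2] at ih
      have h4 := ih.step hx (by omega) (by omega)
      have h5 : min (m + (j + 1)) (max m (Fintype.card α)) = m + j + 1 := by omega
      rw [h5]
      exact h4
    · have h5 : min (m + (j + 1)) (max m (Fintype.card α)) = min (m + j) (max m (Fintype.card α)) := by omega
      rw [h5]
      exact ih.succ

/-- an odd permutation commuting with `x` -/
theorem exists_even_conj {x c : Perm α} (hc : c * x * c⁻¹ = x) (hcs : sign c = -1) (g : Perm α) :
    ∃ g' : Perm α, sign g' = 1 ∧ g' * x * g'⁻¹ = g * x * g⁻¹ := by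
  rcases Int.units_eq_one_or (sign g) with h1 | h1
  · exact ⟨g, h1, rfl⟩
  · refine ⟨g * c, by rw [map_mul, h1, hcs]; decide, ?_⟩
    have h2 : g * c * x * (g * c)⁻¹ = g * (c * x * c⁻¹) * g⁻¹ := by group
    rw [h2, hc]

/-- two conjugates -/
theorem Good.two {x g : Perm α} (hg : sign g = 1) {a b c : α} (hab : a ≠ b) (hbc : b ≠ c) (hac : a ≠ c)
    (h : ∀ H : Subgroup (Perm α), x ∈ H → g * x * g⁻¹ ∈ H → C3 a b c ∈ H) : Good x 2 3 := by
  refine ⟨![1, g], ?_, {a, b, c}, ?_, ?_⟩
  · intro i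
    fin_cases i
    · exact sign_one
    · exact hg
  · rw [Finset.card_eq_three.2 ⟨a, b, c, hab, hac, hbc, rfl⟩]
  · apply T3.of_mem hab hbc hac
    apply h
    · exact Subgroup.subset_closure ⟨0, by simp⟩
    · exact Subgroup.subset_closure ⟨1, by simp⟩

end Cfsg.Agent.H127.Gen
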