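import Cfsg.Agent.H127.Gen.Conj

/-!
# S4327, alternating row: the first conjugates (two conjugates generate a group containing a 3-cycle, unless `x` is an
involution without fixed points)
-/

set_option autoImplicit false
set_option linter.unusedSectionVars false

namespace Cfsg.Agent.H127.Gen

open Equiv Equiv.Perm

variable {α : Type*} [DecidableEq α] [Fintype α]

theorem pow_apply_ne {x : Perm α} {p : ℕ} (hp : p.Prime) (hx : x ^ p = 1) {a : α} (ha : x a ≠ a) {j : ℕ}
    (hj0 : 0 < j) (hj : j < p) : (x ^ j) a ≠ a := by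
  intro h
  have h1 : Function.IsPeriodicPt x p a := by
    show x^[p] a = a
    rw [iterate_eq_pow, hx]
    rfl
  have h2 : Function.IsPeriodicPt x j a := by
    show x^[j] a = a
    rw [iterate_eq_pow, h]
  have h3 := h1.minimalPeriod_dvd
  have h4 := h2.minimalPeriod_dvd
  rcases (Nat.dvd_prime hp).1 h3 with h5 | h5
  · rw [Function.minimalPeriod_eq_one_iff_isFixedPt] at h5
    exact ha h5
  · rw [h5] at h4
    exact absurd (Nat.le_of_dvd hj0 h4) (by omega)

/-- the product `(b c d) (a b c)⁻¹` -/
theorem C3_mul_inv {a b c d : α} (hab : a ≠ b) (hac : a ≠ c) (had : a ≠ d) (hbc : b ≠ c) (hbd : b ≠ d)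
    (hcd : c ≠ d) : C3 b c d * (C3 a b c)⁻¹ = C3 b a d := by
  rw [C3_inv]
  ext v
  rw [Perm.mul_apply]
  by_cases h1 : v = a
  · subst h1
    rw [C3_apply_right, C3_apply_mid hbd hcd, C3_apply_mid hbd had]
  by_cases h2 : v = b
  · subst h2
    rw [C3_apply_mid hac.symm hab.symm, C3_apply_of_ne hab hac had, C3_apply_left hab.symm hbd]
  by_cases h3 : v = c
  · subst h3
    rw [C3_apply_left hbc.symm hac.symm, C3_apply_left hbc hbd, C3_apply_of_ne hbc.symm hac.symm hcd]
  by_cases h4 : v = d
  · subst h4
    rw [C3_apply_of_ne h3 h2 h1, C3_apply_right, C3_apply_right]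
  rw [C3_apply_of_ne h3 h2 h1, C3_apply_of_ne h2 h3 h4, C3_apply_of_ne h2 h1 h4]

theorem mem_comm {H : Subgroup (Perm α)} {x g : Perm α} (h1 : x ∈ H) (h2 : g * x * g⁻¹ ∈ H) :
    g * (x * g⁻¹ * x⁻¹) ∈ H := by
  have h : g * (x * g⁻¹ * x⁻¹) = (g * x * g⁻¹) * x⁻¹ := by group
  rw [h]
  exact mul_mem h2 (inv_mem h1)

/-- order at least five -/
theorem start_five {x : Perm α} {p : ℕ} (hp : p.Prime) (hx : x ^ p = 1) (h5 : 5 ≤ p) {a : α} (ha : x a ≠ a) :
    Good x 2 3 := by
  have h1 : ∀ j, 0 < j → j < p → (x ^ j) a ≠ a := fun j hj0 hj => pow_apply_ne hp hx ha hj0 hj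
  have e1 : (x ^ 1) a = x a := by rw [pow_one]
  have e2 : (x ^ 2) a = x (x a) := rfl
  have e3 : (x ^ 3) a = x (x (x a)) := rfl
  have hab : a ≠ x a := fun h => h1 1 (by omega) (by omega) (e1.trans h.symm)
  have hac : a ≠ x (x a) := fun h => h1 2 (by omega) (by omega) (e2.trans h.symm)
  have had : a ≠ x (x (x a)) := fun h => h1 3 (by omega) (by omega) (e3.trans h.symm)
  have hbc : x a ≠ x (x a) := x.injective.ne hab
  have hbd : x a ≠ x (x (x a)) := x.injective.ne hac
  have hcd : x (x a) ≠ x (x (x a)) := x.injective.ne hbc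
  refine Good.two (g := C3 a (x a) (x (x a))) (C3_sign hab hbc) (a := x (x (x a))) (b := a) (c := x a)
    had.symm hab hbd.symm ?_
  intro H hx1 hx2
  have h2 := inv_mem (mem_comm hx1 hx2)
  have h3 : (C3 a (x a) (x (x a)) * (x * (C3 a (x a) (x (x a)))⁻¹ * x⁻¹))⁻¹ =
      C3 (x a) (x (x a)) (x (x (x a))) * (C3 a (x a) (x (x a)))⁻¹ := by
    rw [← C3_conj x a (x a) (x (x a))]
    group
  rw [h3, C3_mul_inv hab hac had hbc hbd hcd] at h2
  have h4 := inv_mem h2
  rwa [C3_inv] at h4

/-- order two with a fixed point -/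
theorem start_two {x : Perm α} (hx : x ^ 2 = 1) {a f : α} (ha : x a ≠ a) (hf : x f = f) : Good x 2 3 := by
  have hxx : ∀ v, x (x v) = v := fun v => by
    have := congrArg (fun g : Perm α => g v) hx
    exact this
  have hfa : f ≠ a := fun h => ha (h ▸ hf)
  have hfb : f ≠ x a := fun h => ha (by rw [← h, ← hf, h, hxx])
  have hc : swap a (x a) * x * (swap a (x a))⁻¹ = x := by
    have h1 : x * swap a (x a) = swap a (x a) * x := by
      rw [mul_swap_eq_swap_mul, hxx, swap_comm]
    rw [← h1, mul_assoc, mul_inv_cancel, mul_one]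
  obtain ⟨g, hg, hgx⟩ := exists_even_conj hc (sign_swap ha.symm) (swap (x a) f)
  refine Good.two hg (a := x a) (b := f) (c := a) hfb.symm hfa ha ?_
  intro H hx1 hx2
  rw [hgx] at hx2
  have h2 := mem_comm hx1 hx2
  have h3 : swap (x a) f * (x * (swap (x a) f)⁻¹ * x⁻¹) = C3 (x a) f a := by
    unfold C3
    rw [swap_inv, mul_swap_eq_swap_mul, hxx, hf, mul_assoc (swap a f), mul_inv_cancel, mul_one, swap_comm a f]
  rwa [h3] at h2

/-- order three -/
theorem start_three {x : Perm α} (hx : x ^ 3 = 1) {a : α} (ha : x a ≠ a) : Good x 2 3 := by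
  have hxx : ∀ v, x (x (x v)) = v := fun v => by
    have := congrArg (fun g : Perm α => g v) hx
    exact this
  have hne : ∀ v, x v ≠ v → v ≠ x (x v) := by
    intro v hv h
    apply hv
    conv_lhs => rw [h]
    exact hxx v
  have hab : a ≠ x a := ha.symm
  have hbc : x a ≠ x (x a) := x.injective.ne hab
  have hac : a ≠ x (x a) := hne a ha
  by_cases hall : ∀ d, d ≠ a → d ≠ x a → d ≠ x (x a) → x d = d
  · -- `x` is a 3-cycle
    have hxC : x = C3 a (x a) (x (x a)) := by
      ext v
      by_cases h1 : v = a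
      · subst h1
        rw [C3_apply_left hab hac]
      by_cases h2 : v = x a
      · subst h2
        rw [C3_apply_mid hac hbc]
      by_cases h3 : v = x (x a)
      · rw [h3, C3_apply_right, hxx]
      rw [hall v h1 h2 h3, C3_apply_of_ne h1 h2 h3]
    refine Good.two (g := 1) sign_one hab hbc hac ?_
    intro H hx1 _
    rwa [← hxC]
  · push Not at hall
    obtain ⟨d, hd1, hd2, hd3, hd4⟩ := hall
    -- the odd permutation exchanging the two cycles
    set c := swap a d * swap (x a) (x d) * swap (x (x a)) (x (x d)) with hc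
    have hbe : x a ≠ x d := x.injective.ne hd1.symm
    have hcf : x (x a) ≠ x (x d) := x.injective.ne hbe
    have hsc : sign c = -1 := by
      rw [hc, map_mul, map_mul, sign_swap hd1.symm, sign_swap hbe, sign_swap hcf]
      decide
    have hde : d ≠ x d := hd4.symm
    have hdf : d ≠ x (x d) := hne d hd4
    have hef : x d ≠ x (x d) := x.injective.ne hde
    have h1 : a ≠ x d := fun h => hd3 (by rw [h, hxx])
    have h2 : a ≠ x (x d) := fun h => hd2 (by rw [h, hxx])
    have hcomm : Commute (swap a d) (swap (x a) (x d) * swap (x (x a)) (x (x d))) := by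
      have e1 : Commute (swap a d) (swap (x a) (x d)) := by
        apply Perm.Disjoint.commute
        rw [Perm.disjoint_iff_eq_or_eq]
        intro v
        by_cases hv : v = a
        · subst hv
          exact Or.inr (swap_apply_of_ne_of_ne hab h1)
        · by_cases hv2 : v = d
          · subst hv2
            exact Or.inr (swap_apply_of_ne_of_ne hd2 hde)
          · exact Or.inl (swap_apply_of_ne_of_ne hv hv2)
      have e2 : Commute (swap a d) (swap (x (x a)) (x (x d))) := by
        apply Perm.Disjoint.commute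
        rw [Perm.disjoint_iff_eq_or_eq]
        intro v
        by_cases hv : v = a
        · subst hv
          exact Or.inr (swap_apply_of_ne_of_ne hac h2)
        · by_cases hv2 : v = d
          · subst hv2
            exact Or.inr (swap_apply_of_ne_of_ne hd3 hdf)
          · exact Or.inl (swap_apply_of_ne_of_ne hv hv2)
      exact e1.mul_right e2
    have hcx : c * x * c⁻¹ = x := by
      have h3 : x * c = c * x := by
        rw [hc]
        have e1 : x * (swap a d * swap (x a) (x d) * swap (x (x a)) (x (x d))) =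
            swap (x a) (x d) * swap (x (x a)) (x (x d)) * swap a d * x := by
          have hs : ∀ u v, x * swap u v = swap (x u) (x v) * x := fun u v => mul_swap_eq_swap_mul x u v
          rw [← mul_assoc, ← mul_assoc, hs a d, mul_assoc (swap (x a) (x d)) x, hs (x a) (x d), ← mul_assoc,
            mul_assoc _ x, hs (x (x a)) (x (x d)), ← mul_assoc, hxx, hxx]
        rw [e1]
        congr 1
        rw [← hcomm.eq, mul_assoc]
      rw [← h3, mul_assoc, mul_inv_cancel, mul_one]
    obtain ⟨g, hg, hgx⟩ := exists_even_conj hcx hsc (swap a (x a))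
    refine Good.two hg hab hbc hac ?_
    intro H hx1 hx2
    rw [hgx] at hx2
    have h4 := mem_comm hx1 hx2
    have h3 : swap a (x a) * (x * (swap a (x a))⁻¹ * x⁻¹) = C3 a (x a) (x (x a)) := by
      unfold C3
      rw [swap_inv, mul_swap_eq_swap_mul, mul_assoc (swap (x a) (x (x a))), mul_inv_cancel, mul_one]
    rwa [h3] at h4

/-- all elements of prime order, except the involutions without fixed points -/
theorem start {x : Perm α} (hx : (orderOf x).Prime) (h : orderOf x ≠ 2 ∨ ∃ f, x f = f) : Good x 2 3 := by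
  obtain ⟨a, ha⟩ : ∃ b, x b ≠ b := by
    by_contra h0
    push Not at h0
    have : x = 1 := Perm.ext h0
    rw [this, orderOf_one] at hx
    exact Nat.not_prime_one hx
  have hpow := pow_orderOf_eq_one x
  by_cases h2 : orderOf x = 2
  · obtain ⟨f, hf⟩ := h.resolve_left (fun h0 => h0 h2)
    rw [h2] at hpow
    exact start_two hpow ha hf
  by_cases h3 : orderOf x = 3
  · rw [h3] at hpow
    exact start_three hpow ha
  have h5 : 5 ≤ orderOf x := by
    have h6 := hx.two_le
    have h7 : orderOf x ≠ 4 := fun h0 => by rw [h0] at hx; exact absurd hx (by norm_num)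
    omega
  exact start_five hx hpow h5 ha

end Cfsg.Agent.H127.Gen
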